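import Groth.Agent.Comodule.UnipotentLog
import Groth.Agent.Comodule.PrimUnip
import Mathlib

/-! Commutative unipotent groups in characteristic zero are vector groups. -/

set_option autoImplicit false
set_option backward.isDefEq.respectTransparency false
universe u v

open TensorProduct WithConv
open Groth.Agent.Comodule

noncomputable section

namespace Groth.Agent.OneDimLib

variable {k : Type u} [Field k] [CharZero k] {A : Type v} [CommRing A] [HopfAlgebra k A]
  (hA : ∀ a : A, ∃ n, a ∈ fil k A A n)

local notation "ε" => Coalgebra.counit (R := k) (A := A)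

theorem logPow_mem (n : ℕ) : ∀ a : A, logPow hA n a ∈ Algebra.adjoin k (Set.range (log hA)) := by
  induction n with
  | zero => exact fun a => Subalgebra.algebraMap_mem _ _
  | succ n ih =>
    intro a
    rw [logPow, LinearMap.comp_apply, LinearMap.comp_apply]
    induction Coalgebra.comul (R := k) a with
    | zero => simp
    | add x y hx hy => rw [map_add, map_add]; exact add_mem hx hy
    | tmul x y =>
      rw [TensorProduct.map_tmul, LinearMap.mul'_apply]
      exact mul_mem (ih x) (Algebra.subset_adjoin ⟨y, rfl⟩)

theorem adjoin_range_log : Algebra.adjoin k (Set.range (log hA)) = ⊤ := by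
  refine eq_top_iff.mpr fun a _ => ?_
  have h := eval_expHom hA a 1
  rw [Nat.cast_one, powMap, pow_one, ofConv_toConv, AlgHom.id_apply, Polynomial.eval_eq_sum_range] at h
  rw [← h]
  refine Subalgebra.sum_mem _ fun n _ => ?_
  rw [one_pow, mul_one]
  have h1 := eval_iterate_derivative hA n a
  rw [← Polynomial.coeff_zero_eq_eval_zero, Polynomial.coeff_iterate_derivative, zero_add, Nat.descFactorial_self,
    ← Nat.cast_smul_eq_nsmul k] at h1
  rw [show (expHom hA a).coeff n = (n.factorial : k)⁻¹ • logPow hA n a by
    rw [← h1, inv_smul_smul₀ (Nat.cast_ne_zero.mpr n.factorial_ne_zero)]]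
  exact Subalgebra.smul_mem _ (logPow_mem hA n a) _

theorem powMap_comul [Coalgebra.IsCocomm k A] (m : ℕ) (a : A) :
    Coalgebra.comul (R := k) (powMap (k := k) m a) =
      Algebra.TensorProduct.map (powMap (k := k) (A := A) m) (powMap (k := k) (A := A) m)
        (Coalgebra.comul (R := k) a) := by
  let i₁ : WithConv (A →ₐ[k] A ⊗[k] A) := toConv (Algebra.TensorProduct.includeLeft (S := k) (R := k) (A := A) (B := A))
  let i₂ : WithConv (A →ₐ[k] A ⊗[k] A) := toConv (Algebra.TensorProduct.includeRight (R := k) (A := A) (B := A))
  have hcomp : ∀ (f : A →ₐ[k] A ⊗[k] A) (z z' : WithConv (A →ₐ[k] A)),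
      toConv (f.comp (z * z').ofConv) = toConv (f.comp z.ofConv) * toConv (f.comp z'.ofConv) := fun f z z' => by
    refine WithConv.ofConv_injective (AlgHom.ext fun b => ?_)
    simp only [AlgHom.comp_apply, AlgHom.convMul_apply, ofConv_toConv]
    induction Coalgebra.comul (R := k) b with
    | zero => simp
    | add x y hx hy => simp only [map_add, hx, hy]
    | tmul x y => simp
  have hpow : ∀ (f : A →ₐ[k] A ⊗[k] A) (j : ℕ), toConv (f.comp (powMap (k := k) j)) = toConv f ^ j := fun f j => by
    induction j with
    | zero =>
      refine WithConv.ofConv_injective (AlgHom.ext fun b => ?_)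
      rw [powMap, pow_zero, pow_zero]
      simp only [ofConv_toConv, AlgHom.comp_apply, AlgHom.convOne_apply, AlgHom.commutes]
    | succ j ih =>
      rw [powMap, pow_succ, hcomp, ofConv_toConv, AlgHom.comp_id, pow_succ, ← ih]
      rfl
  have hΔ : toConv (Bialgebra.comulAlgHom k A) = i₁ * i₂ := by
    refine WithConv.ofConv_injective (AlgHom.ext fun b => ?_)
    simp only [AlgHom.convMul_apply, ofConv_toConv, i₁, i₂, Bialgebra.comulAlgHom_apply]
    induction Coalgebra.comul (R := k) b with
    | zero => simp
    | add x y hx hy => rw [map_add, ← hx, ← hy]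
    | tmul x y => simp
  have h := hpow (Bialgebra.comulAlgHom k A) m
  rw [hΔ, mul_pow, ← hpow, ← hpow] at h
  have h' := congrArg (fun z : WithConv (A →ₐ[k] A ⊗[k] A) => z.ofConv a) h
  simp only [ofConv_toConv, AlgHom.comp_apply, AlgHom.convMul_apply, Bialgebra.comulAlgHom_apply] at h'
  rw [h']
  induction Coalgebra.comul (R := k) a with
  | zero => simp
  | add x y hx hy => simp only [map_add, hx, hy]
  | tmul x y => simp [Algebra.TensorProduct.tmul_mul_tmul]

theorem log_primitive [Coalgebra.IsCocomm k A] (a : A) :
    Coalgebra.comul (R := k) (log hA a) = log hA a ⊗ₜ[k] (1 : A) + (1 : A) ⊗ₜ[k] log hA a := by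
  let j₁ : A →ₐ[k] Polynomial (A ⊗[k] A) :=
    (Polynomial.mapAlgHom (Algebra.TensorProduct.includeLeft (S := k) (R := k) (A := A) (B := A))).comp (expHom hA)
  let j₂ : A →ₐ[k] Polynomial (A ⊗[k] A) :=
    (Polynomial.mapAlgHom (Algebra.TensorProduct.includeRight (R := k) (A := A) (B := A))).comp (expHom hA)
  have heval : ∀ (f : A →ₐ[k] A ⊗[k] A) (b : A) (m : ℕ),
      ((Polynomial.mapAlgHom f) (expHom hA b)).eval (m : A ⊗[k] A) = f (powMap (k := k) m b) := fun f b m => by
    rw [← eval_expHom hA, Polynomial.coe_mapAlgHom, ← map_natCast f m, Polynomial.eval_map]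
    exact Polynomial.eval₂_at_apply (p := expHom hA b) f.toRingHom (m : A)
  have hP : (Polynomial.mapAlgHom (Bialgebra.comulAlgHom k A)) (expHom hA a) =
      Algebra.TensorProduct.lift j₁ j₂ (fun _ _ => Commute.all _ _) (Coalgebra.comul (R := k) a) := by
    refine poly_ext (k := k) fun m => ?_
    rw [heval, Bialgebra.comulAlgHom_apply, powMap_comul]
    induction Coalgebra.comul (R := k) a with
    | zero => simp
    | add x y hx hy => simp only [map_add, Polynomial.eval_add, hx, hy]
    | tmul x y =>
      simp only [Algebra.TensorProduct.map_tmul, Algebra.TensorProduct.lift_tmul, Polynomial.eval_mul, j₁, j₂,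
        AlgHom.comp_apply, heval]
      simp [Algebra.TensorProduct.tmul_mul_tmul]
  have h1 := congrArg (fun Q => Polynomial.coeff Q 1) hP
  simp only [Polynomial.coe_mapAlgHom, Polynomial.coeff_map] at h1
  refine Eq.trans (Eq.trans ?_ h1) ?_
  · rfl
  · have key : ∀ z : A ⊗[k] A,
        (Algebra.TensorProduct.lift j₁ j₂ (fun _ _ => Commute.all _ _) z).coeff 1 =
          log hA (TensorProduct.rid k A ((Coalgebra.counit (R := k) (A := A)).lTensor A z)) ⊗ₜ[k] (1 : A) +
            (1 : A) ⊗ₜ[k] log hA (TensorProduct.lid k A ((Coalgebra.counit (R := k) (A := A)).rTensor A z)) := by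
      intro z
      induction z with
      | zero => simp
      | add x y hx hy =>
        simp only [map_add, Polynomial.coeff_add, hx, hy, TensorProduct.add_tmul, TensorProduct.tmul_add]
        abel
      | tmul x y =>
        have e0 : ∀ b : A, (expHom hA b).coeff 0 = algebraMap k A (Coalgebra.counit (R := k) b) := fun b => by
          rw [Polynomial.coeff_zero_eq_eval_zero, expHom_eval_zero]
        have e1 : ∀ b : A, (expHom hA b).coeff 1 = log hA b := fun b => rfl
        simp only [Algebra.TensorProduct.lift_tmul, Polynomial.mul_coeff_one, j₁, j₂, AlgHom.comp_apply,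
          Polynomial.coe_mapAlgHom, Polynomial.coeff_map, e0, e1, LinearMap.lTensor_tmul, LinearMap.rTensor_tmul,
          TensorProduct.rid_tmul, TensorProduct.lid_tmul, map_smul]
        simp [Algebra.algebraMap_eq_smul_one, TensorProduct.smul_tmul', TensorProduct.tmul_smul, mul_comm, add_comm]
    rw [key, Coalgebra.lTensor_counit_comul, Coalgebra.rTensor_counit_comul]
    simp

theorem log_of_primitive {x : A} (hx : Coalgebra.comul (R := k) x = x ⊗ₜ[k] (1 : A) + (1 : A) ⊗ₜ[k] x)
    (h0 : Coalgebra.counit (R := k) x = 0) : log hA x = x := by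
  have h : expHom hA x = Polynomial.C x * Polynomial.X := poly_ext (k := k) fun m => by
    rw [eval_expHom, Polynomial.eval_mul, Polynomial.eval_C, Polynomial.eval_X]
    induction m with
    | zero => rw [powMap, pow_zero, AlgHom.convOne_apply, h0, map_zero, Nat.cast_zero, mul_zero]
    | succ m ih =>
      rw [powMap_add, hx, map_add, map_add]
      simp only [Algebra.TensorProduct.map_tmul, Algebra.TensorProduct.lmul'_apply_tmul, map_one, ih]
      rw [powMap, pow_one, ofConv_toConv, AlgHom.id_apply]
      push_cast
      ring
  rw [log_apply, h]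
  simp

theorem counit_primitive {x : A} (hx : Coalgebra.comul (R := k) x = x ⊗ₜ[k] (1 : A) + (1 : A) ⊗ₜ[k] x) :
    Coalgebra.counit (R := k) x = 0 := by
  have h := congrArg (fun z => (Coalgebra.counit (R := k) (A := A))
    (TensorProduct.lid k A ((Coalgebra.counit (R := k) (A := A)).rTensor A z))) hx
  simpa using h

include hA in
theorem exists_generators [Algebra.FiniteType k A] [Coalgebra.IsCocomm k A] :
    ∃ (n : ℕ) (x : Fin n → A), AlgebraicIndependent k x ∧ Algebra.adjoin k (Set.range x) = ⊤ ∧
      ∀ i, Coalgebra.comul (R := k) (x i) = x i ⊗ₜ[k] (1 : A) + (1 : A) ⊗ₜ[k] x i := by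
  classical
  obtain ⟨s, hs⟩ := (inferInstance : Algebra.FiniteType k A).out
  let W : Submodule k A := Submodule.span k (log hA '' (s : Set A))
  haveI : Module.Finite k W := Module.Finite.span_of_finite k (s.finite_toSet.image _)
  have hWr : ∀ a, log hA a ∈ W := fun a => by
    have ha : a ∈ Algebra.adjoin k (s : Set A) := hs ▸ Algebra.mem_top
    induction ha using Algebra.adjoin_induction with
    | mem x hx => exact Submodule.subset_span ⟨x, hx, rfl⟩
    | algebraMap c => rw [Algebra.algebraMap_eq_smul_one, map_smul, log_one, smul_zero]; exact zero_mem _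
    | add x y _ _ hx hy => rw [map_add]; exact add_mem hx hy
    | mul x y _ _ hx hy => rw [log_mul]; exact add_mem (Submodule.smul_mem _ _ hy) (Submodule.smul_mem _ _ hx)
  have hWp : ∀ w ∈ W, Coalgebra.comul (R := k) w = w ⊗ₜ[k] (1 : A) + (1 : A) ⊗ₜ[k] w := fun w hw => by
    induction hw using Submodule.span_induction with
    | mem x hx => obtain ⟨a, -, rfl⟩ := hx; exact log_primitive hA a
    | zero => simp
    | add x y _ _ hx hy => rw [map_add, hx, hy, TensorProduct.add_tmul, TensorProduct.tmul_add]; abel
    | smul c x _ hx => rw [map_smul, hx, smul_add, TensorProduct.smul_tmul', TensorProduct.tmul_smul]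
  let b := Module.finBasis k W
  let x : Fin (Module.finrank k W) → A := fun i => (b i : A)
  have hx : ∀ i, Coalgebra.comul (R := k) (x i) = x i ⊗ₜ[k] (1 : A) + (1 : A) ⊗ₜ[k] x i := fun i => hWp _ (b i).2
  refine ⟨_, x, ?_, ?_, hx⟩
  · -- dual derivations
    let q : Fin (Module.finrank k W) → (A →ₗ[k] k) := fun i =>
      (b.coord i).comp ((log hA).codRestrict W hWr)
    have hqx : ∀ i j, q i (x j) = if j = i then 1 else 0 := fun i j => by
      have : (log hA).codRestrict W hWr (x j) = b j :=
        Subtype.ext (log_of_primitive hA (hx j) (counit_primitive (hx j)))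
      simp only [q, LinearMap.comp_apply, this, Module.Basis.coord_apply, Module.Basis.repr_self, Finsupp.single_apply]
    have hqm : ∀ i (u v : A), q i (u * v) =
        Coalgebra.counit (R := k) u * q i v + Coalgebra.counit (R := k) v * q i u := fun i u v => by
      have : (log hA).codRestrict W hWr (u * v) = Coalgebra.counit (R := k) u • (log hA).codRestrict W hWr v +
          Coalgebra.counit (R := k) v • (log hA).codRestrict W hWr u := Subtype.ext (log_mul hA u v)
      simp only [q, LinearMap.comp_apply, this, map_add, map_smul, smul_eq_mul]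
    let d : Fin (Module.finrank k W) → (A →ₗ[k] A) := fun i => rcon (q i) ∘ₗ Coalgebra.comul (R := k)
    have hleib : ∀ i (u v : A), d i (u * v) = u * d i v + v * d i u := fun i u v => by
      have hzz : ∀ z z' : A ⊗[k] A, rcon (q i) (z * z') =
          TensorProduct.rid k A ((Coalgebra.counit (R := k) (A := A)).lTensor A z) * rcon (q i) z' +
            TensorProduct.rid k A ((Coalgebra.counit (R := k) (A := A)).lTensor A z') * rcon (q i) z := by
        intro z z'
        induction z with
        | zero => simp
        | add a a' ha ha' => simp only [add_mul, map_add, ha, ha', mul_add]; abel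
        | tmul a a' =>
          induction z' with
          | zero => simp
          | add c c' hc hc' => simp only [mul_add, map_add, hc, hc', add_mul]; abel
          | tmul c c' =>
            simp only [Algebra.TensorProduct.tmul_mul_tmul, rcon_tmul, hqm, LinearMap.lTensor_tmul,
              TensorProduct.rid_tmul, smul_mul_assoc, mul_smul_comm, smul_smul, add_smul, mul_comm c a]
            rw [mul_comm (Coalgebra.counit (R := k) a') (q i c'), mul_comm (Coalgebra.counit (R := k) c') (q i a')]
      simp only [d, LinearMap.comp_apply, Bialgebra.comul_mul, hzz, Coalgebra.lTensor_counit_comul]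
      simp
    have hd1 : ∀ i, d i 1 = 0 := fun i => by
      have h := hleib i 1 1
      simpa using h
    have hdx : ∀ i j, d i (x j) = if j = i then 1 else 0 := fun i j => by
      have hq1 : q i 1 = 0 := by
        simp only [q, LinearMap.comp_apply]
        rw [show (log hA).codRestrict W hWr 1 = 0 from Subtype.ext (log_one hA), map_zero]
      simp only [d, LinearMap.comp_apply, hx, map_add, rcon_tmul, hq1, zero_smul, zero_add, hqx]
      split <;> simp
    have hcomm : ∀ i (P : MvPolynomial (Fin (Module.finrank k W)) k), MvPolynomial.aeval x (MvPolynomial.pderiv i P) = d i (MvPolynomial.aeval x P) := by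
      intro i P
      induction P using MvPolynomial.induction_on with
      | C c => simp [Algebra.algebraMap_eq_smul_one, hd1]
      | add P Q hP hQ => simp only [map_add, hP, hQ]
      | mul_X P j hP =>
        rw [Derivation.leibniz, map_add, smul_eq_mul, smul_eq_mul, map_mul, map_mul, hP, map_mul, hleib,
          MvPolynomial.aeval_X, hdx, MvPolynomial.pderiv_X, Pi.single_apply]
        split <;> simp
    rw [algebraicIndependent_iff]
    suffices h : ∀ (e : ℕ) (m : Fin (Module.finrank k W) →₀ ℕ), m.degree = e →
        ∀ P : MvPolynomial (Fin (Module.finrank k W)) k, MvPolynomial.aeval x P = 0 → MvPolynomial.coeff m P = 0 from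
      fun P hP => MvPolynomial.ext _ _ fun m => by rw [h _ m rfl P hP, MvPolynomial.coeff_zero]
    intro e
    induction e with
    | zero =>
      intro m hm P hP
      rw [Finsupp.degree_eq_zero_iff] at hm
      have h0 := congrArg (Bialgebra.counitAlgHom k A) hP
      rw [map_zero, ← AlgHom.comp_apply, MvPolynomial.comp_aeval] at h0
      rw [hm, ← MvPolynomial.constantCoeff_eq, ← h0, show (fun i => Bialgebra.counitAlgHom k A (x i)) = fun _ => 0 from
        funext fun i => counit_primitive (hx i)]
      simp
    | succ e ih =>
      intro m hm P hP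
      obtain ⟨i, hi⟩ : ∃ i, m i ≠ 0 := by
        by_contra hc
        simp only [not_exists, not_not] at hc
        rw [show m = 0 from Finsupp.ext hc, map_zero] at hm
        omega
      obtain ⟨m', rfl⟩ : ∃ m', m = m' + Finsupp.single i 1 := ⟨m - Finsupp.single i 1, by
        ext j
        by_cases hj : j = i
        · subst hj; simp; omega
        · simp [Finsupp.single_apply, Ne.symm hj]⟩
      have h1 := ih m' (by rw [map_add, Finsupp.degree_single] at hm; omega) (MvPolynomial.pderiv i P)
        (by rw [hcomm, hP, map_zero])
      rw [MvPolynomial.coeff_pderiv] at h1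
      exact (mul_eq_zero.mp h1).resolve_right (Nat.cast_add_one_ne_zero _)
  · refine eq_top_iff.mpr ((adjoin_range_log hA).ge.trans (Algebra.adjoin_le ?_))
    rintro _ ⟨a, rfl⟩
    have h1 : log hA a ∈ Submodule.span k (Set.range x) := by
      have := b.mem_span (⟨log hA a, hWr a⟩ : W)
      have h2 := Submodule.mem_map_of_mem (f := W.subtype) this
      rwa [Submodule.map_span, ← Set.range_comp] at h2
    exact Algebra.span_le_adjoin k _ h1

end Groth.Agent.OneDimLib
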