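import Groth.Agent.UnipH7.Basic
import Groth.Agent.Comodule.CharIndep
import Groth.Agent.Comodule.ConnDomain
import Groth.Agent.HopfFF.Coinv
import Mathlib

/-! One-dimensional connected groups over an algebraically closed field are commutative. -/

set_option autoImplicit false
set_option backward.isDefEq.respectTransparency false
universe u v w

open TensorProduct WithConv
open Groth.Agent.Comodule

noncomputable section

namespace Groth.Agent.OneDimLib

variable {k : Type u} [Field k] {A : Type v} [CommRing A] [HopfAlgebra k A]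

local notation "Γ₀" => WithConv (A →ₐ[k] k)

/-- The inverse of a rational point. -/
def ptInv (σ : Γ₀) : Γ₀ := toConv (σ.ofConv.comp (HopfAlgebra.antipodeAlgHom k A))

theorem ptInv_mul (σ : Γ₀) : ptInv σ * σ = 1 := by
  refine WithConv.ofConv_injective (AlgHom.ext fun a => ?_)
  rw [AlgHom.convMul_apply, AlgHom.convOne_apply, ← σ.ofConv.commutes (Coalgebra.counit (R := k) a),
    ← HopfAlgebra.mul_antipode_rTensor_comul_apply (R := k) a]
  induction Coalgebra.comul (R := k) a with
  | zero => simp
  | tmul x y => simp [ptInv]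
  | add x y hx hy => simp only [map_add, hx, hy]

theorem mul_ptInv (σ : Γ₀) : σ * ptInv σ = 1 := by
  refine WithConv.ofConv_injective (AlgHom.ext fun a => ?_)
  rw [AlgHom.convMul_apply, AlgHom.convOne_apply, ← σ.ofConv.commutes (Coalgebra.counit (R := k) a),
    ← HopfAlgebra.mul_antipode_lTensor_comul_apply (R := k) a]
  induction Coalgebra.comul (R := k) a with
  | zero => simp
  | tmul x y => simp [ptInv]
  | add x y hx hy => simp only [map_add, hx, hy]

theorem comp_mul (χ : A →ₐ[k] k) (f f' : WithConv (A →ₐ[k] A)) :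
    toConv (χ.comp (f * f').ofConv) = toConv (χ.comp f.ofConv) * toConv (χ.comp f'.ofConv) := by
  refine WithConv.ofConv_injective (AlgHom.ext fun a => ?_)
  simp only [AlgHom.comp_apply, AlgHom.convMul_apply, ofConv_toConv]
  induction Coalgebra.comul (R := k) a with
  | zero => simp
  | add x y hx hy => simp only [map_add, hx, hy]
  | tmul x y => simp

/-- The comorphism of the orbit map of `g` under conjugation. -/
def conjMap (g : Γ₀) : A →ₐ[k] A :=
  (toConv (AlgHom.id k A) * toConv ((Algebra.ofId k A).comp g.ofConv) * toConv (HopfAlgebra.antipodeAlgHom k A)).ofConv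

theorem conjMap_apply (g χ : Γ₀) (a : A) : χ.ofConv (conjMap g a) = (χ * g * ptInv χ).ofConv a := by
  have h : toConv (χ.ofConv.comp (conjMap g)) = χ * g * ptInv χ := by
    rw [conjMap, comp_mul, comp_mul]
    congr 2
    refine WithConv.ofConv_injective (AlgHom.ext fun b => ?_)
    simp only [ofConv_toConv, AlgHom.comp_apply, Algebra.ofId_apply, AlgHom.commutes]
    rfl
  exact congrArg (fun z : Γ₀ => z.ofConv a) h

variable [IsAlgClosed k] [Algebra.FiniteType k A]

theorem eq_of_pts [IsReduced A] {a b : A} (h : ∀ σ : Γ₀, σ.ofConv a = σ.ofConv b) : a = b :=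
  sub_eq_zero.mp (UnipH7.eq_zero_of_forall_algHom (k := k) _ fun σ => by rw [map_sub, sub_eq_zero]; exact h (toConv σ))

theorem eq_zero_of_pts₂ [IsReduced A] {z : A ⊗[k] A}
    (h : ∀ σ τ : A →ₐ[k] k, TensorProduct.lift ((LinearMap.mul k k).compl₁₂ σ.toLinearMap τ.toLinearMap) z = 0) :
    z = 0 := by
  classical
  let bs := Module.Basis.ofVectorSpace k A
  let e := TensorProduct.equivFinsuppOfBasisRight (M := A) bs
  have hz : z = (e z).sum fun i a => a ⊗ₜ[k] bs i := by
    conv_lhs => rw [← e.symm_apply_apply z, TensorProduct.equivFinsuppOfBasisRight_symm_apply]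
  suffices e z = 0 by rw [hz, this, Finsupp.sum_zero_index]
  ext i
  refine UnipH7.eq_zero_of_forall_algHom (k := k) _ fun σ => ?_
  have hy : (e z).sum (fun i a => σ a • bs i) = 0 :=
    UnipH7.eq_zero_of_forall_algHom (k := k) _ fun τ => by
      rw [map_finsuppSum]
      refine Eq.trans ?_ (h σ τ)
      conv_rhs => rw [hz]
      rw [map_finsuppSum]
      exact Finsupp.sum_congr fun j _ => by simp
  have h2 := congrArg (fun v => bs.repr v i) hy
  simp only [Finsupp.sum, map_sum, map_smul, Module.Basis.repr_self, Finsupp.coe_finsetSum, Finset.sum_apply,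
    Finsupp.smul_single, smul_eq_mul, mul_one, Finsupp.single_apply, map_zero, Finsupp.coe_zero, Pi.zero_apply,
    Finset.sum_ite_eq'] at h2
  by_cases hi : i ∈ (e z).support
  · rwa [if_pos hi] at h2
  · rw [Finsupp.notMem_support_iff.mp hi, map_zero]

theorem isCocomm_of_comm [IsReduced A] (h : ∀ σ τ : Γ₀, σ * τ = τ * σ) : Coalgebra.IsCocomm k A where
  comm_comp_comul := LinearMap.ext fun a => sub_eq_zero.mp (eq_zero_of_pts₂ fun σ τ => by
    have e1 : ∀ (σ τ : A →ₐ[k] k) (z : A ⊗[k] A),
        TensorProduct.lift ((LinearMap.mul k k).compl₁₂ σ.toLinearMap τ.toLinearMap) z =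
          Algebra.TensorProduct.lift σ τ (fun _ _ => Commute.all _ _) z := fun σ τ z => by
      induction z with
      | zero => simp
      | add x y hx hy => simp only [map_add, hx, hy]
      | tmul x y => simp
    have e2 : ∀ z : A ⊗[k] A,
        TensorProduct.lift ((LinearMap.mul k k).compl₁₂ σ.toLinearMap τ.toLinearMap) (TensorProduct.comm k A A z) =
          TensorProduct.lift ((LinearMap.mul k k).compl₁₂ τ.toLinearMap σ.toLinearMap) z := fun z => by
      induction z with
      | zero => simp
      | add x y hx hy => simp only [map_add, hx, hy]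
      | tmul x y => simp [mul_comm]
    rw [map_sub, sub_eq_zero, LinearMap.comp_apply, LinearEquiv.coe_coe, e2, e1, e1]
    have := congrArg (fun z : Γ₀ => z.ofConv a) (h (toConv τ) (toConv σ))
    simpa only [AlgHom.convMul_apply, ofConv_toConv] using this)

section DimOne

variable [IsDomain A] (hdim : ringKrullDim A = 1)

include hdim

/-- A non-zero function has finitely many zeros. -/
theorem finite_zeros {f : A} (hf : f ≠ 0) : {σ : Γ₀ | σ.ofConv f = 0}.Finite := by
  haveI : IsNoetherianRing A := Algebra.FiniteType.isNoetherianRing k A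
  haveI : Ring.KrullDimLE 1 A := Ring.krullDimLE_iff.mpr hdim.le
  refine Set.Finite.of_finite_image (f := fun σ : Γ₀ => RingHom.ker σ.ofConv.toRingHom)
    ((Ideal.finite_minimalPrimes_of_isNoetherianRing A (Ideal.span {f})).subset ?_) ?_
  · rintro _ ⟨σ, hσ, rfl⟩
    refine ⟨⟨RingHom.ker_isPrime _, (Ideal.span_singleton_le_iff_mem _).mpr hσ⟩, fun q hq hle => ?_⟩
    obtain ⟨hqp, hqf⟩ := hq
    haveI := hqp
    have hq0 : q ≠ ⊥ := fun e => hf (Ideal.mem_bot.mp (e ▸ (Ideal.span_singleton_le_iff_mem _).mp hqf))
    haveI : q.IsMaximal := Ideal.IsPrime.isMaximal_of_ne_bot ‹_› hq0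
    exact (Ideal.IsMaximal.eq_of_le ‹q.IsMaximal› (RingHom.ker_ne_top _) hle).ge
  · intro σ _ τ _ h
    refine WithConv.ofConv_injective (AlgHom.ext fun a => ?_)
    have h1 : a - algebraMap k A (σ.ofConv a) ∈ RingHom.ker τ.ofConv.toRingHom :=
      (show RingHom.ker σ.ofConv.toRingHom = RingHom.ker τ.ofConv.toRingHom from h).le
        (show σ.ofConv (a - algebraMap k A (σ.ofConv a)) = 0 by rw [map_sub, AlgHom.commutes]; exact sub_self _)
    have h2 : τ.ofConv (a - algebraMap k A (σ.ofConv a)) = 0 := h1
    rw [map_sub, AlgHom.commutes, sub_eq_zero] at h2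
    exact h2.symm

theorem infinite_pts : (Set.univ : Set Γ₀).Infinite := by
  intro hfin
  haveI : Finite Γ₀ := Set.finite_univ_iff.mp hfin
  let E : A →ₗ[k] (Γ₀ → k) := LinearMap.pi fun σ => σ.ofConv.toLinearMap
  haveI : Module.Finite k A := Module.Finite.of_injective E fun a b h => eq_of_pts (k := k) fun σ => congrFun h σ
  haveI : IsArtinianRing A := IsArtinianRing.of_finite k A
  rw [ringKrullDim_eq_zero_of_isField (IsArtinianRing.isField_of_isDomain A)] at hdim
  exact zero_ne_one hdim

/-- A function vanishing outside a finite set of points is zero. -/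
theorem eq_zero_of_cofinite {f : A} (h : {σ : Γ₀ | σ.ofConv f ≠ 0}.Finite) : f = 0 := by
  by_contra hf
  refine infinite_pts hdim (((finite_zeros hdim hf).union h).subset fun σ _ => ?_)
  exact (em (σ.ofConv f = 0)).imp id id

/-- A point is central or has dense conjugacy class. -/
theorem central_or_injective (g : Γ₀) : (∀ χ, χ * g = g * χ) ∨ Function.Injective (conjMap g) := by
  rcases em (Function.Injective (conjMap g)) with h | h
  · exact Or.inr h
  left
  obtain ⟨f, hf0, hf⟩ : ∃ f, f ≠ 0 ∧ conjMap g f = 0 := by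
    by_contra hc
    exact h ((injective_iff_map_eq_zero _).mpr fun a ha => by_contra fun ha0 => hc ⟨a, ha0, ha⟩)
  have hfin : (Set.range fun χ : Γ₀ => χ * g * ptInv χ).Finite := (finite_zeros hdim hf0).subset (by
    rintro _ ⟨χ, rfl⟩
    show (χ * g * ptInv χ).ofConv f = 0
    rw [← conjMap_apply, hf, map_zero])
  intro χ
  suffices χ * g * ptInv χ = g by
    conv_rhs => rw [← this, _root_.mul_assoc, ptInv_mul, _root_.mul_one]
  refine WithConv.ofConv_injective (AlgHom.ext fun a => ?_)
  classical
  let vals := (hfin.image fun z : Γ₀ => z.ofConv a).toFinset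
  have hprod : ∏ c ∈ vals, (conjMap g a - algebraMap k A c) = 0 := eq_of_pts (k := k) fun σ => by
    rw [map_zero, map_prod]
    refine Finset.prod_eq_zero (i := (σ * g * ptInv σ).ofConv a) ?_ ?_
    · rw [Set.Finite.mem_toFinset]
      exact Set.mem_image_of_mem _ ⟨σ, rfl⟩
    · rw [map_sub, AlgHom.commutes, conjMap_apply]
      exact sub_self _
  obtain ⟨c, -, hc⟩ := Finset.prod_eq_zero_iff.mp hprod
  rw [sub_eq_zero] at hc
  have h1 := conjMap_apply g χ a
  have h2 := conjMap_apply g 1 a
  rw [hc, AlgHom.commutes] at h1 h2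
  rw [← h1, h2, show ptInv (1 : Γ₀) = 1 from (_root_.mul_one _).symm.trans (ptInv_mul 1), _root_.mul_one,
    _root_.one_mul]

omit hdim in
/-- If some conjugacy class is dense, every point acts unipotently. -/
theorem unipotent_of_injective {g : Γ₀} (hg : Function.Injective (conjMap g)) (V : Type w) [AddCommGroup V]
    [Module k V] [HopfRep.Comod k A V] [Module.Finite k V] (x : A →ₐ[k] k) :
    IsNilpotent (HopfRep.Comod.act k A V x - 1) := by
  classical
  let b := Module.finBasis k V
  let M : Matrix (Fin (Module.finrank k V)) (Fin (Module.finrank k V)) A :=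
    fun i j => lcon (b.coord i) (HopfRep.Comod.coact (k := k) (A := A) (b j))
  have key : ∀ (χ : A →ₐ[k] k) (φ : V →ₗ[k] k) (z : V ⊗[k] A), χ (lcon φ z) = φ (rcon χ.toLinearMap z) := by
    intro χ φ z
    induction z with
    | zero => simp
    | add p q hp hq => simp only [map_add, hp, hq]
    | tmul p q => simp [mul_comm]
  have hM : ∀ χ : A →ₐ[k] k, M.map χ = LinearMap.toMatrix b b (HopfRep.Comod.act k A V χ) := fun χ => by
    ext i j
    rw [Matrix.map_apply, LinearMap.toMatrix_apply]
    exact key χ _ _
  let ρ : Γ₀ →* Module.End k V :=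
    { toFun := fun σ => dact σ.ofConv.toLinearMap
      map_one' := LinearMap.ext fun v => by
        rw [Module.End.one_apply]
        refine Eq.trans (congrArg (fun f => dact f v) ?_) (dact_one (C := A) v)
        refine LinearMap.ext fun a => ?_
        simp [AlgHom.convOne_def, LinearMap.convOne_def]
      map_mul' := fun σ τ => LinearMap.ext fun v => by
        rw [Module.End.mul_apply, ← dact_mul]
        refine congrArg (fun f => dact f v) (LinearMap.ext fun a => ?_)
        simp only [AlgHom.toLinearMap_apply, AlgHom.convMul_apply, LinearMap.convMul_apply, WithConv.ofConv_toConv]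
        induction Coalgebra.comul (R := k) a with
        | zero => simp
        | add p q hp hq => simp only [map_add, hp, hq]
        | tmul p q => simp }
  have hcp : ∀ σ : Γ₀, (M.map σ.ofConv).charpoly = (ρ σ).charpoly := fun σ => by
    rw [hM, LinearMap.charpoly_toMatrix]
    rfl
  have hconst : ∀ (i : ℕ) (σ : Γ₀), σ.ofConv (M.charpoly.coeff i) = (ρ g).charpoly.coeff i := by
    intro i
    have h0 : ∀ σ : Γ₀, σ.ofConv (M.charpoly.coeff i) = (ρ σ).charpoly.coeff i := fun σ => by
      rw [← hcp]
      exact (Polynomial.coeff_map (f := σ.ofConv.toRingHom) (p := M.charpoly) i).symm.trans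
        (congrArg (fun P => Polynomial.coeff P i) (Matrix.charpoly_map M σ.ofConv.toRingHom).symm)
    have h1 : M.charpoly.coeff i = algebraMap k A ((ρ g).charpoly.coeff i) := hg (eq_of_pts (k := k) fun χ => by
      rw [AlgHom.commutes, AlgHom.commutes, conjMap_apply, h0]
      refine congrArg (fun P : Polynomial k => P.coeff i) ?_
      refine (LinearMap.charpoly_toMatrix _ b).symm.trans (Eq.trans ?_ (LinearMap.charpoly_toMatrix (ρ g) b))
      rw [map_mul ρ, map_mul ρ, LinearMap.toMatrix_mul, LinearMap.toMatrix_mul]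
      rw [Matrix.charpoly_mul_comm, ← Matrix.mul_assoc, ← LinearMap.toMatrix_mul, ← map_mul ρ, ptInv_mul, map_one ρ,
        LinearMap.toMatrix_one, Matrix.one_mul])
    intro σ
    rw [h1, AlgHom.commutes]
    rfl
  have hpoly : ∀ σ : Γ₀, (ρ σ).charpoly = (ρ g).charpoly := fun σ => Polynomial.ext fun i => by
    rw [← hcp, ← hconst i σ]
    exact (congrArg (fun P => Polynomial.coeff P i) (Matrix.charpoly_map M σ.ofConv.toRingHom)).trans (by
      rw [Polynomial.coeff_map]; rfl)
  have h1 : (ρ (toConv x)).charpoly = (Polynomial.X - 1) ^ Module.finrank k V := by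
    rw [hpoly, ← hpoly 1, map_one, LinearMap.charpoly_one]
  refine ⟨Module.finrank k V, ?_⟩
  have h2 := LinearMap.aeval_self_charpoly (ρ (toConv x))
  rw [h1] at h2
  simp only [map_pow, map_sub, Polynomial.aeval_X, map_one] at h2
  exact h2

/-- A one-dimensional connected group is commutative. -/
theorem pts_comm : ∀ σ τ : Γ₀, σ * τ = τ * σ := by
  by_contra hne
  obtain ⟨g, hg⟩ : ∃ g : Γ₀, ¬ ∀ χ, χ * g = g * χ := by
    by_contra hc
    simp only [not_exists, not_not] at hc
    exact hne fun σ τ => hc τ σ
  have hinj : Function.Injective (conjMap g) := (central_or_injective hdim g).resolve_left hg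
  have hU : HopfRep.IsUnipotent k A := fun V _ _ _ _ _ =>
    UnipH7.fixedPts_ne_bot_of_points fun x => unipotent_of_injective hinj V x
  obtain ⟨a, ha⟩ : ∃ a : A, a ∉ fil k A A 1 := by
    by_contra hc
    simp only [not_exists, not_not] at hc
    refine hg fun χ => ?_
    have hsub : ∀ σ τ : Γ₀, σ = τ := fun σ τ => WithConv.ofConv_injective (AlgHom.ext fun a => by
      obtain ⟨c, rfl⟩ := mem_fil_one_iff.mp (hc a)
      rw [map_smul, map_smul, map_one, map_one])
    exact hsub _ _
  obtain ⟨n, hn⟩ := isUnipotent_iff_fil.mp hU a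
  obtain ⟨x, hx0, hx⟩ := exists_primitive_of_fil hn ha
  have hadd : ∀ σ τ : Γ₀, (σ * τ).ofConv x = σ.ofConv x + τ.ofConv x := fun σ τ => by
    rw [AlgHom.convMul_apply, hx]
    simp
  have hone : (1 : Γ₀).ofConv x = 0 := by
    have := hadd 1 1
    rwa [_root_.one_mul, left_eq_add] at this
  have h1 : conjMap g x = algebraMap k A (g.ofConv x) := eq_of_pts fun χ => by
    rw [conjMap_apply, AlgHom.commutes, hadd, hadd]
    have h2 := hadd (ptInv χ) χ
    rw [ptInv_mul, hone] at h2
    show _ = g.ofConv x
    linear_combination -h2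
  have h3 : x = algebraMap k A (g.ofConv x) := hinj (by rw [h1, AlgHom.commutes])
  refine hx0 ?_
  have h4 := congrArg (1 : Γ₀).ofConv h3
  rw [hone, AlgHom.commutes] at h4
  rw [h3, show g.ofConv x = 0 from h4.symm, map_zero]

end DimOne

end Groth.Agent.OneDimLib
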